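import Mathlib.NumberTheory.RamificationInertia.Galois
import Mathlib.RingTheory.RootsOfUnity.Basic
import Mathlib.RingTheory.Filtration
import Mathlib.RingTheory.Polynomial.Basic
import Mathlib.FieldTheory.Separable
import Mathlib.GroupTheory.PGroup
import Mathlib.GroupTheory.Perm.Cycle.Type

/-!
# The tame character on the inertia group of a maximal ideal of a Dedekind domain
-/

set_option autoImplicit false

open scoped Pointwise
open Polynomial

namespace Groth.L05.Inertia

section Group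

variable {A B : Type*} [CommRing A] [CommRing B] [Algebra A B]
  {G : Type*} [Group G] [MulSemiringAction G B]

theorem smul_mem_pow {m : Ideal B} {σ : G} (hσ : σ ∈ MulAction.stabilizer G m) :
    ∀ (j : ℕ) {x : B}, x ∈ m ^ j → σ • x ∈ m ^ j := by
  intro j
  induction j with
  | zero => intro x _; simp
  | succ j ih =>
    intro x hx
    rw [pow_succ] at hx ⊢
    refine Submodule.mul_induction_on hx ?_ ?_
    · intro a ha b hb
      rw [smul_mul']
      refine Ideal.mul_mem_mul (ih ha) ?_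
      have := Ideal.smul_mem_pointwise_smul σ b m hb
      rwa [MulAction.mem_stabilizer_iff.1 hσ] at this
    · intro a b ha hb
      rw [smul_add]
      exact Ideal.add_mem _ ha hb

/-- A wild inertia element acts trivially on `m ^ j / m ^ (j+1)`. -/
theorem smul_sub_self_mem_pow_succ {m : Ideal B} {σ : G} (hσ : σ ∈ MulAction.stabilizer G m)
    (h2 : ∀ x : B, σ • x - x ∈ m ^ 2) :
    ∀ (j : ℕ) {x : B}, x ∈ m ^ j → σ • x - x ∈ m ^ (j + 1) := by
  intro j
  induction j with
  | zero =>
    intro x _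
    exact Ideal.pow_le_pow_right (by omega) (h2 x)
  | succ j ih =>
    intro x hx
    rw [pow_succ] at hx
    refine Submodule.mul_induction_on hx ?_ ?_
    · intro a ha b hb
      have : σ • (a * b) - a * b = (σ • a - a) * σ • b + a * (σ • b - b) := by
        rw [smul_mul']; ring
      rw [this]
      refine Ideal.add_mem _ ?_ ?_
      · rw [pow_succ]
        refine Ideal.mul_mem_mul (ih ha) ?_
        have := Ideal.smul_mem_pointwise_smul σ b m hb
        rwa [MulAction.mem_stabilizer_iff.1 hσ] at this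
      · rw [show j + 1 + 1 = j + 2 from rfl, pow_add]
        exact Ideal.mul_mem_mul ha (h2 b)
    · intro a b ha hb
      have : σ • (a + b) - (a + b) = (σ • a - a) + (σ • b - b) := by rw [smul_add]; ring
      rw [this]
      exact Ideal.add_mem _ ha hb

theorem stabilizer_inf_inertia_sq_le {m : Ideal B} :
    MulAction.stabilizer G m ⊓ (m ^ 2).inertia G ≤ m.inertia G :=
  fun σ hσ x => Ideal.pow_le_self two_ne_zero (hσ.2 x)

theorem normal_wild (m : Ideal B) :
    ((MulAction.stabilizer G m ⊓ (m ^ 2).inertia G).subgroupOf (MulAction.stabilizer G m)).Normal := by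
  refine (Subgroup.normal_subgroupOf_iff inf_le_left).mpr fun s g hs hg => ⟨?_, fun x => ?_⟩
  · exact Subgroup.mul_mem _ (Subgroup.mul_mem _ hg hs.1) (Subgroup.inv_mem _ hg)
  · have hy := hs.2 (g⁻¹ • x)
    have h2 := smul_mem_pow hg 2 hy
    rw [smul_sub, smul_inv_smul] at h2
    rwa [mul_smul, mul_smul]

theorem cancel_pow {m : Ideal B} [m.IsMaximal] {y a : B} (hy : y ∉ m) {i : ℕ} (h : y * a ∈ m ^ i) :
    a ∈ m ^ i := by
  have htop : Ideal.span {y} ⊔ m ^ i = ⊤ :=
    Ideal.sup_pow_eq_top (by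
      rw [sup_comm]
      exact Ideal.IsMaximal.out.2 _ (lt_of_le_of_ne le_sup_left fun he => hy (he ▸
        Ideal.mem_sup_right (Ideal.mem_span_singleton_self y))))
  have h1 : (1 : B) ∈ Ideal.span {y} ⊔ m ^ i := htop ▸ Submodule.mem_top
  obtain ⟨u, hu, w, hw, huw⟩ := Submodule.mem_sup.1 h1
  obtain ⟨z, rfl⟩ := Ideal.mem_span_singleton'.1 hu
  have : a = z * (y * a) + a * w := by linear_combination -a * huw
  rw [this]
  exact Ideal.add_mem _ (Ideal.mul_mem_left _ _ h) (Ideal.mul_mem_left _ _ hw)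

variable [SMulCommClass G A B]

theorem smul_aeval (σ : G) (f : A[X]) (x : B) : σ • aeval x f = aeval (σ • x) f :=
  (Polynomial.aeval_algHom_apply (MulSemiringAction.toAlgHom A B σ) x f).symm

/-- With separable residue extension, an inertia element fixing a uniformiser modulo `m ^ 2` is
wild. -/
theorem smul_sub_self_mem_sq (m : Ideal B) [m.IsMaximal]
    [Algebra.IsSeparable (A ⧸ m.comap (algebraMap A B)) (B ⧸ m)]
    {π : B} (hπm : π ∈ m) (hgen : ∀ z ∈ m, ∃ y : B, z - y * π ∈ m ^ 2)
    {σ : G} (hσ : σ ∈ m.inertia G) (hπ : σ • π - π ∈ m ^ 2) (x : B) : σ • x - x ∈ m ^ 2 := by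
  have hσD : σ ∈ MulAction.stabilizer G m := Ideal.inertia_le_stabilizer (M := G) m hσ
  have step : ∀ z ∈ m, σ • z - z ∈ m ^ 2 := by
    intro z hz
    obtain ⟨y, hy⟩ := hgen z hz
    have e : σ • z - z = (σ • (z - y * π) - (z - y * π)) + (σ • y - y) * σ • π + y * (σ • π - π) := by
      rw [smul_sub, smul_mul']; ring
    rw [e]
    refine Ideal.add_mem _ (Ideal.add_mem _ (Ideal.sub_mem _ (smul_mem_pow hσD 2 hy) hy) ?_)
      (Ideal.mul_mem_left _ _ hπ)
    rw [pow_two]
    exact Ideal.mul_mem_mul (hσ y) (by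
      simpa using smul_mem_pow hσD 1 (by simpa using hπm))
  set c : B ⧸ m := Ideal.Quotient.mk m x
  have hsep : (minpoly (A ⧸ m.comap (algebraMap A B)) c).Separable :=
    Algebra.IsSeparable.isSeparable (A ⧸ m.comap (algebraMap A B)) c
  obtain ⟨f, hf⟩ := Polynomial.map_surjective (Ideal.Quotient.mk (m.comap (algebraMap A B)))
    Ideal.Quotient.mk_surjective (minpoly (A ⧸ m.comap (algebraMap A B)) c)
  have hmk : ∀ q : A[X], Ideal.Quotient.mk m (aeval x q) =
      aeval c (q.map (Ideal.Quotient.mk (m.comap (algebraMap A B)))) := by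
    intro q
    rw [← Ideal.Quotient.algebraMap_eq (m.comap (algebraMap A B)), aeval_map_algebraMap]
    exact (Polynomial.aeval_algebraMap_apply (B ⧸ m) x q).symm
  have hfm : aeval x f ∈ m := by
    rw [← Ideal.Quotient.eq_zero_iff_mem, hmk, hf]
    exact minpoly.aeval _ _
  have hfd : aeval x (derivative f) ∉ m := by
    rw [← Ideal.Quotient.eq_zero_iff_mem, hmk, ← derivative_map, hf]
    haveI : Nontrivial (B ⧸ m) := Ideal.Quotient.nontrivial_iff.2 (Ideal.IsPrime.ne_top inferInstance)
    exact hsep.aeval_derivative_ne_zero (minpoly.aeval _ _)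
  obtain ⟨k, hk⟩ := Polynomial.binomExpansion (f.map (algebraMap A B)) x (σ • x - x)
  rw [add_sub_cancel, derivative_map, eval_map_algebraMap, eval_map_algebraMap,
    eval_map_algebraMap, ← smul_aeval] at hk
  have h2 := step _ hfm
  have hd2 : k * (σ • x - x) ^ 2 ∈ m ^ 2 := Ideal.mul_mem_left _ _ (Ideal.pow_mem_pow (hσ x) 2)
  refine cancel_pow hfd ?_
  have : aeval x (derivative f) * (σ • x - x)
      = (σ • aeval x f - aeval x f) - k * (σ • x - x) ^ 2 := by
    rw [hk]; ring
  rw [this]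
  exact Ideal.sub_mem _ h2 hd2

end Group

section Dedekind

variable {B : Type*} [CommRing B] [IsDomain B] [IsDedekindDomain B]

theorem exists_uniformizer (m : Ideal B) [m.IsMaximal] (h0 : m ≠ ⊥) :
    ∃ π ∈ m, π ∉ m ^ 2 ∧ ∀ z ∈ m, ∃ y : B, z - y * π ∈ m ^ 2 := by
  obtain ⟨π, hπ, hπ2⟩ := Ideal.exists_mem_pow_notMem_pow_succ m h0 Ideal.IsPrime.ne_top' 1
  rw [pow_one] at hπ
  refine ⟨π, hπ, hπ2, fun z hz => ?_⟩
  have heq : Ideal.span {π} ⊔ m ^ 2 = m ^ 1 := by
    refine Ideal.eq_prime_pow_of_succ_lt_of_le h0 (lt_of_le_of_ne le_sup_right fun he => hπ2 ?_) ?_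
    · exact (show π ∈ m ^ (1 + 1) from he ▸ Ideal.mem_sup_left (Ideal.mem_span_singleton_self π))
    · rw [pow_one]
      exact sup_le ((Ideal.span_singleton_le_iff_mem _).2 hπ) (Ideal.pow_le_self two_ne_zero)
  rw [← pow_one m, ← heq] at hz
  obtain ⟨u, hu, w, hw, rfl⟩ := Submodule.mem_sup.1 hz
  obtain ⟨y, rfl⟩ := Ideal.mem_span_singleton'.1 hu
  exact ⟨y, by simpa using hw⟩

theorem mem_of_mul_mem_sq {m : Ideal B} [m.IsMaximal] {π y : B} (hπ2 : π ∉ m ^ 2)
    (h : y * π ∈ m ^ 2) : y ∈ m := by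
  by_contra hy
  exact hπ2 (cancel_pow hy h)

variable {G : Type*} [Group G] [MulSemiringAction G B] (m : Ideal B) [m.IsMaximal]

/-- The tame character `σ ↦ σ π / π mod m` on the inertia group. -/
theorem exists_tameChar (h0 : m ≠ ⊥) :
    ∃ (π : B) (θ : m.inertia G →* (B ⧸ m)ˣ), π ∈ m ∧ (∀ z ∈ m, ∃ y : B, z - y * π ∈ m ^ 2) ∧
      ∀ σ, θ σ = 1 ↔ (σ : G) • π - π ∈ m ^ 2 := by
  obtain ⟨π, hπ, hπ2, hgen⟩ := exists_uniformizer m h0
  have hst : ∀ σ : m.inertia G, (σ : G) ∈ MulAction.stabilizer G m := fun σ =>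
    Ideal.inertia_le_stabilizer (M := G) m σ.2
  have hex : ∀ σ : m.inertia G, ∃ y : B, (σ : G) • π - y * π ∈ m ^ 2 := fun σ =>
    hgen _ (by simpa using smul_mem_pow (hst σ) 1 (x := π) (by simpa using hπ))
  choose u hu using hex
  have huniq : ∀ (σ : m.inertia G) (y : B), (σ : G) • π - y * π ∈ m ^ 2 →
      Ideal.Quotient.mk m (u σ) = Ideal.Quotient.mk m y := by
    intro σ y hy
    refine Ideal.Quotient.eq.2 (mem_of_mul_mem_sq hπ2 ?_)
    have := Ideal.sub_mem _ hy (hu σ)
    convert this using 1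
    ring
  let θ₀ : m.inertia G →* B ⧸ m :=
    { toFun := fun σ => Ideal.Quotient.mk m (u σ)
      map_one' := by
        rw [huniq 1 1 (by simp), map_one]
      map_mul' := fun σ τ => by
        rw [← map_mul]
        refine huniq _ _ ?_
        rw [Subgroup.coe_mul, mul_smul]
        have e : (σ : G) • ((τ : G) • π) - u σ * u τ * π =
            (σ : G) • ((τ : G) • π - u τ * π) + ((σ : G) • u τ - u τ) * (σ : G) • π
              + u τ * ((σ : G) • π - u σ * π) := by
          rw [smul_sub, smul_mul']; ring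
        rw [e]
        refine Ideal.add_mem _ (Ideal.add_mem _ (smul_mem_pow (hst σ) 2 (hu τ)) ?_)
          (Ideal.mul_mem_left _ _ (hu σ))
        rw [pow_two]
        exact Ideal.mul_mem_mul (σ.2 _) (by
          simpa using smul_mem_pow (hst σ) 1 (x := π) (by simpa using hπ)) }
  refine ⟨π, θ₀.toHomUnits, hπ, hgen, fun σ => ?_⟩
  rw [Units.ext_iff, MonoidHom.coe_toHomUnits, Units.val_one]
  show Ideal.Quotient.mk m (u σ) = 1 ↔ _
  constructor
  · intro h
    rw [← map_one (Ideal.Quotient.mk m), Ideal.Quotient.eq] at h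
    have : (σ : G) • π - π = ((σ : G) • π - u σ * π) + (u σ - 1) * π := by ring
    rw [this]
    refine Ideal.add_mem _ (hu σ) ?_
    rw [pow_two]
    exact Ideal.mul_mem_mul h hπ
  · intro h
    rw [huniq σ 1 (by simpa using h), map_one]

end Dedekind

section Wild

variable {B : Type*} [CommRing B] [IsDomain B] [IsNoetherianRing B]
  {G : Type*} [Group G] [MulSemiringAction G B] [FaithfulSMul G B] {m : Ideal B} [m.IsMaximal]

theorem eq_one_of_wild {σ : G} (hσ : σ ∈ MulAction.stabilizer G m ⊓ (m ^ 2).inertia G) {n : ℕ}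
    (hn : (n : B) ∉ m) (hpow : σ ^ n = 1) : σ = 1 := by
  have key : ∀ i, ∀ x : B, σ • x - x ∈ m ^ (i + 2) := by
    intro i
    induction i with
    | zero => exact hσ.2
    | succ i ih =>
      intro x
      refine cancel_pow hn ?_
      have hk : ∀ k : ℕ, σ ^ k • x - x - (k : B) * (σ • x - x) ∈ m ^ (i + 2 + 1) := by
        intro k
        induction k with
        | zero => simp
        | succ k ihk =>
          have hmem : σ ^ k • x - x ∈ m ^ (i + 2) := by
            have := Ideal.add_mem _ (Ideal.pow_le_pow_right (show i + 2 ≤ i + 2 + 1 by omega) ihk)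
              (Ideal.mul_mem_left _ (k : B) (ih x))
            simpa using this
          have e : σ ^ (k + 1) • x - x - ((k + 1 : ℕ) : B) * (σ • x - x) =
              (σ • (σ ^ k • x - x) - (σ ^ k • x - x)) + (σ ^ k • x - x - (k : B) * (σ • x - x)) := by
            rw [pow_succ', mul_smul, smul_sub, Nat.cast_succ]; ring
          rw [e]
          exact Ideal.add_mem _ (smul_sub_self_mem_pow_succ hσ.1 hσ.2 (i + 2) hmem) ihk
      have := hk n
      rw [hpow, one_smul, sub_self, zero_sub, neg_mem_iff] at this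
      exact this
  refine eq_of_smul_eq_smul fun x : B => ?_
  rw [one_smul, ← sub_eq_zero, ← Ideal.mem_bot,
    ← Ideal.iInf_pow_eq_bot_of_isDomain m Ideal.IsPrime.ne_top']
  exact Ideal.mem_iInf.2 fun i => Ideal.pow_le_pow_right (show i ≤ i + 2 by omega) (key i x)

theorem isPGroup_wild [Finite G] {p : ℕ} (hp : p.Prime) [CharP (B ⧸ m) p] :
    IsPGroup p ↥(MulAction.stabilizer G m ⊓ (m ^ 2).inertia G) := by
  intro σ
  obtain ⟨a, n, hpn, hord⟩ := Nat.exists_eq_pow_mul_and_not_dvd
    (n := orderOf (σ : G)) (orderOf_pos (σ : G)).ne' p hp.ne_one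
  refine ⟨a, Subtype.ext ?_⟩
  rw [SubmonoidClass.coe_pow, OneMemClass.coe_one]
  refine eq_one_of_wild (Subgroup.pow_mem _ σ.2 _) (n := n) ?_ ?_
  · rw [← Ideal.Quotient.eq_zero_iff_mem, map_natCast, CharP.cast_eq_zero_iff (B ⧸ m) p]
    exact hpn
  · rw [← pow_mul, ← hord, pow_orderOf_eq_one]

theorem wild_eq_bot [Finite G] [CharZero (B ⧸ m)] :
    MulAction.stabilizer G m ⊓ (m ^ 2).inertia G = ⊥ := by
  refine (Subgroup.eq_bot_iff_forall _).2 fun σ hσ => ?_
  refine eq_one_of_wild hσ (n := orderOf σ) ?_ (pow_orderOf_eq_one σ)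
  rw [← Ideal.Quotient.eq_zero_iff_mem, map_natCast, Nat.cast_eq_zero]
  exact (orderOf_pos σ).ne'

end Wild

section Units

variable {k : Type*} [Field k]

theorem not_dvd_card_units_subgroup (H : Subgroup kˣ) [Finite H] (p : ℕ) [Fact p.Prime]
    [CharP k p] : ¬ p ∣ Nat.card H := by
  intro h
  obtain ⟨x, hx⟩ := exists_prime_orderOf_dvd_card' p h
  have h1 : ((x : kˣ) : k) ^ p = 1 ^ p := by
    rw [one_pow, ← Units.val_pow_eq_pow_val, ← SubmonoidClass.coe_pow, ← hx, pow_orderOf_eq_one]
    simp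
  have h2 : (x : kˣ) = 1 := Units.ext (frobenius_inj k p (by simpa [frobenius_def] using h1))
  have : x = 1 := Subtype.ext h2
  rw [this, orderOf_one] at hx
  exact (Fact.out : p.Prime).ne_one hx.symm

theorem eq_rootsOfUnity (H : Subgroup kˣ) [Finite H] (e : ℕ) (q : ℕ) [ExpChar k q] (a : ℕ)
    (he : e = q ^ a * Nat.card H) : H = rootsOfUnity e k := by
  haveI : NeZero (Nat.card H) := ⟨Nat.card_pos.ne'⟩
  have h1 : rootsOfUnity e k = rootsOfUnity (Nat.card H) k := by
    refine le_antisymm (fun x hx => ?_) (fun x hx => ?_)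
    · rw [mem_rootsOfUnity'] at hx ⊢
      rw [he, mul_comm, pow_mul] at hx
      exact iterateFrobenius_inj k q a (by simpa [iterateFrobenius_def] using hx)
    · rw [mem_rootsOfUnity'] at hx ⊢
      rw [he, mul_comm, pow_mul, hx, one_pow]
  rw [h1]
  refine Subgroup.eq_of_le_of_card_ge (fun x hx => ?_) (card_rootsOfUnity _ _)
  rw [mem_rootsOfUnity]
  have h : (⟨x, hx⟩ : H) ^ Nat.card H = 1 := pow_card_eq_one'
  exact congrArg Subtype.val h

end Units

section Card

variable {R S G : Type*} [CommRing R] [CommRing S] [Algebra R S] [Group G]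
  [MulSemiringAction G S] [IsGaloisGroup G R S] [Finite G]

attribute [local instance] Ideal.Quotient.field in
/-- `|I| = e` when the residue extension is separable. -/
theorem card_inertia (p : Ideal R) [p.IsMaximal] (P : Ideal S) [P.LiesOver p] [P.IsMaximal]
    [Algebra.IsSeparable (R ⧸ p) (S ⧸ P)] [IsDomain R] [IsDomain S] [Module.Finite R S]
    [Module.Flat R S] :
    Nat.card (P.inertia G) = Ideal.ramificationIdxIn p S := by
  haveI : IsGalois (R ⧸ p) (S ⧸ P) :=
    { __ := Ideal.IsFractionRing.normal G p P (R ⧸ p) (S ⧸ P) }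
  haveI : Module.Finite (R ⧸ p) (S ⧸ P) := Module.Finite.of_restrictScalars_finite R _ _
  have hidx : Subgroup.index _ = _ := Nat.card_congr
    (IsFractionRing.stabilizerQuotientInertiaEquiv G p P (R ⧸ p) (S ⧸ P)).toEquiv
  have hstab : Nat.card (MulAction.stabilizer G P) = Nat.card (P.inertia G) * P.inertiaDeg R := by
    rw [Ideal.inertiaDeg_eq_of_isMaximal p P, ← IsGalois.card_aut_eq_finrank (R ⧸ p) (S ⧸ P),
      ← hidx, ← ((P.inertia G).subgroupOf (MulAction.stabilizer G P)).card_mul_index,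
      Nat.card_congr (Subgroup.subgroupOfEquivOfLe (Ideal.inertia_le_stabilizer (M := G) P)).toEquiv,
      AddSubgroup.subgroupOf_inertia]
  have H : (p.primesOver S).ncard * Nat.card (P.inertia G) * P.inertiaDeg R = Nat.card G := by
    rw [mul_assoc, ← hstab, ← Algebra.IsInvariant.orbit_eq_primesOver R S G p P]
    simpa using Nat.card_congr (MulAction.orbitProdStabilizerEquivGroup G P)
  rw [← Ideal.inertiaDegIn_eq_inertiaDeg p P G] at H
  have h1 : (p.primesOver S).ncard ≠ 0 := by grind [Nat.card_pos]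
  have h2 : p.inertiaDegIn S ≠ 0 := by grind [Nat.card_pos]
  rwa [← Ideal.ncard_primesOver_mul_ramificationIdxIn_mul_inertiaDegIn p S G,
    mul_assoc, mul_right_inj' h1, mul_left_inj' h2] at H

end Card

end Groth.L05.Inertia
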